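import Mathlib
import Cfsg.Agent.Lib.ZJ.Main
import Cfsg.Agent.Lib.PSolvable.Stable
import Cfsg.Agent.Lib.PSolvable.Constrained

/-!
The `ZJ` theorem for `p`-constrained `p`-stable groups.
-/

set_option autoImplicit false

namespace Cfsg.Agent.Lib.ZJ

open Subgroup Cfsg
open scoped commutatorElement

variable {G : Type*} [Group G] {m p : ℕ}

/-- The condition `StableAt` at a normal subgroup, in the quotient by its centraliser. -/
theorem map_le_pCore_of_stableAt (P : Subgroup G) [P.Normal] {A : Subgroup G}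
    (h : PSolvable.StableAt p A P) :
    A.map (QuotientGroup.mk' (centralizer (P : Set G))) ≤ pCore p (G ⧸ centralizer (P : Set G)) := by
  set N := normalizer (P : Set G) with hN
  have htop : N = ⊤ := normalizer_eq_top P
  set C := centralizer (P : Set G) with hC
  set f : N ⧸ C.subgroupOf N →* G ⧸ C :=
    QuotientGroup.map (C.subgroupOf N) C N.subtype (fun _ hx => hx) with hf
  have hs : Function.Surjective f := by
    intro q
    obtain ⟨g, rfl⟩ := QuotientGroup.mk_surjective q
    exact ⟨QuotientGroup.mk (⟨g, htop ▸ mem_top g⟩ : N), rfl⟩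
  rintro _ ⟨a, ha, rfl⟩
  have hm : QuotientGroup.mk' (C.subgroupOf N) (⟨a, htop ▸ mem_top a⟩ : N) ∈ pCore p _ :=
    h (mem_map_of_mem _ (mem_subgroupOf.2 ha))
  exact PSolvable.map_pCore_le hs (mem_map_of_mem f hm)

variable [Finite G] [Fact p.Prime]

theorem stableOn_of_isPStable (h0 : pPrimeCore p G = ⊥) (hs : IsPStable p G) {S : Subgroup G}
    (hS : IsPGroup p S) : StableOn p S := by
  intro P _ hP A hAS hq
  refine map_le_pCore_of_stableAt P (hs.2.2 A P (hS.to_le hAS) hP
    (fun a _ x hx => (inferInstance : P.Normal).conj_mem x hx a) ?_ ?_ hq)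
  · rw [PSolvable.pPrimePCore_of_pPrimeCore_eq_bot h0]; exact PSolvable.le_pCore hP
  · rw [h0, bot_sup_eq]; infer_instance

/-- For `p`-constrained `p`-stable groups with trivial `p'`-core, `zj` is normal. -/
theorem zj_normal_of_isPStable (hp : p ≠ 2) (hm : m = 0 ∨ m = p) (h0 : pPrimeCore p G = ⊥)
    (hc : IsPConstrained p G) (hs : IsPStable p G) (S : Sylow p G) :
    (zj m (S : Subgroup G)).Normal :=
  zj_normal hp hm ((PSolvable.isPConstrained_iff_of_pPrimeCore_eq_bot h0).1 hc) S
    (stableOn_of_isPStable h0 hs S.2)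

theorem injOn_of_coprime {H : Type*} [Group H] (f : G →* H) {P : Subgroup G} (hP : IsPGroup p P)
    (hk : ¬ p ∣ Nat.card f.ker) : Set.InjOn f P := by
  intro x hx y hy hxy
  have h : x⁻¹ * y ∈ P ⊓ f.ker :=
    ⟨P.mul_mem (P.inv_mem hx) hy, (MonoidHom.mem_ker).2 (by rw [map_mul, map_inv, hxy, inv_mul_cancel])⟩
  rw [PSolvable.inf_eq_bot_of_isPGroup_of_coprime hP
    ((Fact.out : p.Prime).coprime_iff_not_dvd.2 hk).symm, mem_bot, inv_mul_eq_one] at h
  exact h

/-- Glauberman's theorem: `G = O_{p'}(G) N(Z(J(P)))`. -/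
theorem sup_normalizer_zj (hp : p ≠ 2) (hm : m = 0 ∨ m = p) (hc : IsPConstrained p G)
    (hs : IsPStable p G) (P : Sylow p G) :
    pPrimeCore p G ⊔ normalizer (zj m (P : Subgroup G) : Set G) = ⊤ := by
  set N := pPrimeCore p G with hN
  set f := QuotientGroup.mk' N with hf
  have hfs : Function.Surjective f := QuotientGroup.mk'_surjective N
  have hker : f.ker = N := QuotientGroup.ker_mk' N
  have hcop : (Nat.card N).Coprime p := PSolvable.pPrimeCore_coprime
  let P' : Sylow p (G ⧸ N) := P.mapSurjective hfs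
  have hn := zj_normal_of_isPStable (m := m) hp hm PSolvable.pPrimeCore_quotient_eq_bot
    ((PSolvable.isPConstrained_iff_quotient_of_coprime N hcop).1 hc)
    ((PSolvable.isPStable_iff_quotient hs.2.1).1 hs) P'
  have hz : zj m (P' : Subgroup (G ⧸ N)) = (zj m (P : Subgroup G)).map f :=
    zj_map f (injOn_of_coprime f P.2 (by rw [hker]; exact PSolvable.pPrimeCore_not_dvd))
  rw [hz] at hn
  have h1 := normalizer_eq_top_iff.2 hn
  rw [PSolvable.normalizer_map_mk' N hcop (P.2.to_le (zj_le m _))] at h1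
  rw [sup_comm, ← hker, ← comap_map_eq, h1, comap_top]

end Cfsg.Agent.Lib.ZJ
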