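import Mathlib
import Cfsg.Prelude.Def_Local
import Cfsg.Agent.Lib.MinimalNormal
import Cfsg.Agent.Lib.Puig.Basic
import Cfsg.Agent.Lib.PSolvable.Stable
import Cfsg.Agent.Lib.PGroup.QuadraticPair

/-!
Failure of `p`-stability on a normal `p`-subgroup descends to a chief factor.
-/

set_option autoImplicit false

namespace Cfsg.Agent.Lib.ZJ

open Cfsg
open scoped commutatorElement IsMulCommutative

variable {p : ℕ} {Q : Type*} [Group Q]

theorem mem_centralizer_of_pow_commute {e : Q} {x m : Q} (hm : e * x * e⁻¹ = m * x)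
    (hem : e * m = m * e) (hmp : m ^ p = 1) : e ^ p * x = x * e ^ p := by
  have h : ∀ n : ℕ, e ^ n * x = m ^ n * x * e ^ n := by
    intro n
    induction n with
    | zero => simp
    | succ n ih =>
      rw [pow_succ', mul_assoc, ih, ← mul_assoc, ← mul_assoc,
        (show Commute e (m ^ n) from (Commute.pow_right hem n)).eq, mul_assoc (m ^ n),
        show e * x = m * x * e by rw [← hm]; group, pow_succ m n]
      simp [mul_assoc]
  rw [h p, hmp, one_mul]

theorem pCore_quotient_centralizer_eq_bot [Finite Q] [Fact p.Prime] (M : Subgroup Q) [M.Normal]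
    (hM0 : M ≠ ⊥) (hmin : ∀ N : Subgroup Q, N.Normal → N ≤ M → N = ⊥ ∨ N = M)
    (hMp : IsPGroup p M) : pCore p (Q ⧸ Subgroup.centralizer (M : Set Q)) = ⊥ := by
  set C := Subgroup.centralizer (M : Set Q) with hC
  set f := QuotientGroup.mk' C with hf
  have hs : Function.Surjective f := QuotientGroup.mk'_surjective C
  set R := (pCore p (Q ⧸ C)).comap f with hR
  have hRn : R.Normal := Subgroup.Normal.comap (inferInstance) f
  let S : Sylow p R := default
  set T := (S : Subgroup R).map R.subtype with hT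
  have hTmap : T.map f = R.map f := PSolvable.map_sylow_eq f S (by
    rw [hR, Subgroup.map_comap_eq_self_of_surjective hs]; exact PSolvable.pCore_isPGroup)
  have hX : IsPGroup p (T ⊔ M : Subgroup Q) :=
    (S.isPGroup'.map _).to_sup_of_normal_right hMp
  have hMn : M.subgroupOf (T ⊔ M) ≠ ⊥ := by
    rw [ne_eq, Subgroup.subgroupOf_eq_bot, disjoint_iff, inf_of_le_left le_sup_right]
    exact hM0
  obtain ⟨y, ⟨hyM, hyc⟩, hy1⟩ := Puig.exists_mem_center_of_normal hX (M.subgroupOf (T ⊔ M)) hMn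
  have hyR : (y : Q) ∈ M ⊓ Subgroup.centralizer (R : Set Q) := by
    refine ⟨hyM, Subgroup.mem_centralizer_iff.2 fun r hr => ?_⟩
    obtain ⟨t, ht, htr⟩ : f r ∈ T.map f := hTmap ▸ Subgroup.mem_map_of_mem f hr
    have hrt : t⁻¹ * r ∈ C := by
      rw [← QuotientGroup.eq_one_iff, ← QuotientGroup.mk'_apply, ← hf, map_mul, map_inv, htr,
        inv_mul_cancel]
    have h1 : (y : Q) * (t⁻¹ * r) = (t⁻¹ * r) * y := Subgroup.mem_centralizer_iff.1 hrt _ hyM
    have h2 : t * (y : Q) = y * t := congrArg Subtype.val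
      (Subgroup.mem_center_iff.1 hyc (⟨t, Subgroup.mem_sup_left ht⟩ : (T ⊔ M : Subgroup Q)))
    calc r * (y : Q) = t * ((t⁻¹ * r) * y) := by group
      _ = t * (y * (t⁻¹ * r)) := by rw [h1]
      _ = y * t * (t⁻¹ * r) := by rw [← mul_assoc, h2]
      _ = y * r := by group
  have hn : (M ⊓ Subgroup.centralizer (R : Set Q)).Normal := inferInstance
  rcases hmin _ hn inf_le_left with h | h
  · rw [h, Subgroup.mem_bot] at hyR
    exact absurd (Subtype.ext hyR) hy1
  · have hRC : R ≤ C := Subgroup.le_centralizer_iff.1 (inf_eq_left.1 h)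
    rw [eq_bot_iff]
    intro z hz
    obtain ⟨r, rfl⟩ := hs z
    exact (QuotientGroup.eq_one_iff r).2 (hRC hz)

/-- A quadratic element acting outside `O_p` on a normal `p`-subgroup acts faithfully outside `O_p`
on a chief factor. -/
theorem exists_chiefFactor {Y : Type*} [Group Y] [Finite Y] [Fact p.Prime] (P : Subgroup Y)
    [P.Normal] (hP : IsPGroup p P) {a : Y}
    (hq : ∀ x ∈ P, a * ⁅x, a⁆ = ⁅x, a⁆ * a)
    (hna : (a : Y ⧸ Subgroup.centralizer (P : Set Y)) ∉
      pCore p (Y ⧸ Subgroup.centralizer (P : Set Y))) :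
    ∃ (W : Subgroup Y) (_ : W.Normal) (V : Subgroup (Y ⧸ W)) (_ : V.Normal),
      W ≤ P ∧ V ≤ P.map (QuotientGroup.mk' W) ∧ IsElementaryAbelian p V ∧ V ≠ ⊥ ∧
      (∀ N : Subgroup (Y ⧸ W), N.Normal → N ≤ V → N = ⊥ ∨ N = V) ∧
      pCore p ((Y ⧸ W) ⧸ Subgroup.centralizer (V : Set (Y ⧸ W))) = ⊥ ∧
      QuotientGroup.mk' W a ∉ Subgroup.centralizer (V : Set (Y ⧸ W)) ∧
      ∀ x ∈ V, QuotientGroup.mk' W a * ⁅x, QuotientGroup.mk' W a⁆ =
        ⁅x, QuotientGroup.mk' W a⁆ * QuotientGroup.mk' W a := by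
  classical
  let kerOn : Subgroup Y → Subgroup Y := fun W => if hW : W.Normal then
      (Subgroup.centralizer ((P.map (QuotientGroup.mk' W) : Subgroup (Y ⧸ W)) : Set (Y ⧸ W))).comap
        (QuotientGroup.mk' W)
    else ⊤
  have hker : ∀ (W : Subgroup Y) [W.Normal] (g : Y), g ∈ kerOn W ↔
      ∀ x ∈ P, g * x * g⁻¹ * x⁻¹ ∈ W := by
    intro W hW g
    simp only [kerOn, dif_pos hW, Subgroup.mem_comap, Subgroup.mem_centralizer_iff]
    constructor
    · intro h x hx
      have h1 := h _ (Subgroup.mem_map_of_mem (QuotientGroup.mk' W) hx)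
      rw [← QuotientGroup.eq_one_iff, ← QuotientGroup.mk'_apply, map_mul, map_mul, map_mul,
        map_inv, map_inv, ← h1, mul_inv_cancel_right, mul_inv_cancel]
    · rintro h _ ⟨x, hx, rfl⟩
      have h1 := (QuotientGroup.eq_one_iff _).2 (h x hx)
      rw [← QuotientGroup.mk'_apply, map_mul, map_mul, map_mul, map_inv, map_inv,
        mul_inv_eq_one, mul_inv_eq_iff_eq_mul] at h1
      exact h1.symm
  have hkn : ∀ W : Subgroup Y, (kerOn W).Normal := fun W => by
    by_cases hW : W.Normal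
    · have : (P.map (QuotientGroup.mk' W)).Normal :=
        Subgroup.Normal.map inferInstance _ (QuotientGroup.mk'_surjective W)
      simp only [kerOn, dif_pos hW]
      exact Subgroup.Normal.comap inferInstance _
    · simp only [kerOn, dif_neg hW]; infer_instance
  let D : Subgroup Y → Subgroup Y := fun W =>
    haveI := hkn W
    (pCore p (Y ⧸ kerOn W)).comap (QuotientGroup.mk' (kerOn W))
  have hbot : kerOn ⊥ = Subgroup.centralizer (P : Set Y) := by
    ext g
    rw [hker ⊥, Subgroup.mem_centralizer_iff]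
    refine forall₂_congr fun x _ => ?_
    rw [Subgroup.mem_bot, mul_inv_eq_one, mul_inv_eq_iff_eq_mul, eq_comm]
  have h0 : a ∉ D ⊥ := by
    intro h
    apply hna
    haveI := hkn ⊥
    let e := QuotientGroup.quotientMulEquivOfEq hbot
    rw [← PSolvable.map_pCore_equiv e]
    exact ⟨(a : Y ⧸ kerOn ⊥), h, rfl⟩
  obtain ⟨W, hW⟩ := (Set.toFinite {W : Subgroup Y | W.Normal ∧ W ≤ P ∧ a ∉ D W}).exists_maximal
    ⟨⊥, inferInstance, bot_le, h0⟩
  obtain ⟨⟨hWn, hWP, haW⟩, hmax⟩ := hW
  set f := QuotientGroup.mk' W with hf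
  have hs : Function.Surjective f := QuotientGroup.mk'_surjective W
  set P' := P.map f with hP'
  have hP'n : P'.Normal := Subgroup.Normal.map inferInstance _ hs
  have hP'0 : P' ≠ ⊥ := by
    intro h
    apply haW
    haveI := hkn W
    have h1 : kerOn W = ⊤ := by
      simp only [kerOn, dif_pos hWn, ← hf, ← hP', h, eq_top_iff]
      intro g _
      simp [Subgroup.mem_centralizer_iff]
    show (a : Y ⧸ kerOn W) ∈ pCore p (Y ⧸ kerOn W)
    rw [(QuotientGroup.eq_one_iff a).2 (h1 ▸ Subgroup.mem_top a)]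
    exact one_mem _
  obtain ⟨M, hMn, hM0, hMP, hMmin⟩ := MinimalNormal.exists_minimal_normal_le hP'n hP'0
  have hMp : IsPGroup p M := (hP.map f).to_le hMP
  have : Group.IsNilpotent M := hMp.isNilpotent
  have hMe : IsElementaryAbelian p M := by
    obtain ⟨hc, r, hr, hpow⟩ := MinimalNormal.elementaryAbelian M hM0 hMmin
    obtain ⟨x, hx, hx1⟩ := (Subgroup.bot_or_exists_ne_one M).resolve_left hM0
    have hrp : r = p := by
      obtain ⟨k, hk⟩ := IsPGroup.iff_orderOf.1 hMp ⟨x, hx⟩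
      rw [Subgroup.orderOf_mk] at hk
      have hd : p ^ k ∣ r := hk ▸ orderOf_dvd_of_pow_eq_one (hpow x hx)
      have hk0 : k ≠ 0 := fun h => hx1 (orderOf_eq_one_iff.1 (by rw [hk, h, pow_zero]))
      exact ((Nat.prime_dvd_prime_iff_eq Fact.out hr).1 ((dvd_pow_self p hk0).trans hd)).symm
    exact ⟨hc, hrp ▸ hpow⟩
  refine ⟨W, hWn, M, hMn, hWP, hMP, hMe, hM0, hMmin,
    pCore_quotient_centralizer_eq_bot M hM0 hMmin hMp, fun haM => ?_, ?_⟩
  · set Wm := M.comap f with hWm
    have hWmn : Wm.Normal := Subgroup.Normal.comap hMn f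
    have hWWm : W ≤ Wm := fun x hx => by
      show f x ∈ M
      rw [hf, QuotientGroup.mk'_apply, (QuotientGroup.eq_one_iff x).2 hx]; exact one_mem _
    have hWmP : Wm ≤ P := fun x hx => by
      obtain ⟨y, hy, hxy⟩ := hMP hx
      have hy' : y⁻¹ * x ∈ W := QuotientGroup.eq.1 hxy
      have := P.mul_mem hy (hWP hy')
      simpa using this
    have haWm : a ∈ D Wm := by
      by_contra h
      have hle : Wm ≤ W := hmax ⟨hWmn, hWmP, h⟩ hWWm
      refine hM0 (le_bot_iff.1 fun m hm => ?_)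
      obtain ⟨x, rfl⟩ := hs m
      exact (QuotientGroup.eq_one_iff x).2 (hle hm)
    haveI := hkn W
    haveI := hkn Wm
    set E := D Wm ⊓ (Subgroup.centralizer (M : Set (Y ⧸ W))).comap f with hE
    have hEn : E.Normal := by
      have : (D Wm).Normal := Subgroup.Normal.comap inferInstance _
      rw [hE]; infer_instance
    apply haW
    have hEmn : (E.map (QuotientGroup.mk' (kerOn W))).Normal :=
      Subgroup.Normal.map hEn _ (QuotientGroup.mk'_surjective _)
    refine PSolvable.le_pCore (N := E.map (QuotientGroup.mk' (kerOn W))) ?_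
      (Subgroup.mem_map_of_mem _ ⟨haWm, haM⟩)
    rintro ⟨_, e, ⟨heD, heC⟩, rfl⟩
    obtain ⟨k, hk⟩ := PSolvable.pCore_isPGroup ⟨_, heD⟩
    refine ⟨k + 1, Subtype.ext ?_⟩
    show ((e : Y ⧸ kerOn W)) ^ p ^ (k + 1) = 1
    rw [← QuotientGroup.mk_pow, QuotientGroup.eq_one_iff, pow_succ, pow_mul]
    set y := e ^ p ^ k with hy
    have hyk : y ∈ kerOn Wm := by
      rw [← QuotientGroup.eq_one_iff, hy, QuotientGroup.mk_pow]
      exact congrArg Subtype.val hk
    have hyM : f y ∈ Subgroup.centralizer (M : Set (Y ⧸ W)) := by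
      rw [hy, map_pow]; exact pow_mem heC _
    rw [hker W]
    intro x hx
    have hm : f (y * x * y⁻¹ * x⁻¹) ∈ M := (hker Wm y).1 hyk x hx
    rw [← QuotientGroup.eq_one_iff, ← QuotientGroup.mk'_apply, ← hf]
    simp only [map_mul, map_inv, map_pow]
    rw [mul_inv_eq_one, mul_inv_eq_iff_eq_mul]
    refine mem_centralizer_of_pow_commute (m := f (y * x * y⁻¹ * x⁻¹)) ?_
      (Subgroup.mem_centralizer_iff.1 hyM _ hm).symm (hMe.2 _ hm)
    simp [map_mul, map_inv]
  · intro x hx
    obtain ⟨z, hz, rfl⟩ := hMP hx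
    rw [← map_commutatorElement, ← map_mul, ← map_mul, hq z hz]

end Cfsg.Agent.Lib.ZJ
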