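import Mathlib
import Cfsg.Agent.Lib.ZJ.SL2Involved
import Cfsg.Agent.Lib.PGroup.QuadraticStable

/-!
Failure of `p`-stability on a module, `p` odd, gives a section isomorphic to `SL₂(p)`.
-/

set_option autoImplicit false

namespace Cfsg.Agent.Lib.ZJ

universe u v

variable {p : ℕ} {H : Type u} [Group H] {M : Type v} [AddCommGroup M]

theorem exists_sl2_section [Finite H] [Finite M] [Fact p.Prime] (hp : p ≠ 2)
    (hM : ∀ v : M, p • v = 0)
    (ρ : H →* AddMonoid.End M) (hinj : ∀ h, (∀ v, ρ h v = v) → h = 1) {a : H}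
    (ha : TwoQuadratic.IsUnipotentTwo (ρ a)) (hna : a ∉ Cfsg.pCore p H) :
    ∃ (K L : Subgroup H) (_ : (L.subgroupOf K).Normal),
      Nonempty ((K ⧸ L.subgroupOf K) ≃* Matrix.SpecialLinearGroup (Fin 2) (ZMod p)) := by
  obtain ⟨g, hg⟩ := QuadraticStable.exists_conj_not_isPGroup hna
  obtain ⟨K, i1, i2, i3, φ, a', b', hr, hnp, hφa, hφb⟩ :=
    QuadraticStable.exists_sl2_of_conj hM ρ hinj ha hg
  obtain ⟨ψ, hψ, hle⟩ := exists_embedding_of_not_isPGroup hp hφa hφb hr hnp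
  obtain ⟨A, B, hn, -, he⟩ := SectionLift.exists_section _ φ ψ hψ hle
  exact ⟨A, B, hn, he⟩

end Cfsg.Agent.Lib.ZJ
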