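import Mathlib
import Cfsg.Agent.Lib.ZJ.SL2Section
import Cfsg.Agent.Lib.ZJ.ChiefFactor

/-!
Failure of `p`-stability gives a section `SL₂(p)`.
-/

set_option autoImplicit false

namespace Cfsg.Agent.Lib.ZJ

open Cfsg
open scoped commutatorElement IsMulCommutative

variable {p : ℕ}

/-- A section of an image is a section. -/
theorem section_comap {G H S : Type*} [Group G] [Group H] [Group S] (f : G →* H)
    (hf : Function.Surjective f) (A B : Subgroup H) [(B.subgroupOf A).Normal]
    (e : (A ⧸ B.subgroupOf A) ≃* S) :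
    ∃ (K L : Subgroup G) (_ : (L.subgroupOf K).Normal),
      Nonempty ((K ⧸ L.subgroupOf K) ≃* S) := by
  set φ : (A.comap f : Subgroup G) →* S :=
    (e.toMonoidHom.comp (QuotientGroup.mk' (B.subgroupOf A))).comp (f.subgroupComap A) with hφ
  have hsurj : Function.Surjective φ := by
    refine (e.surjective.comp (QuotientGroup.mk'_surjective _)).comp ?_
    rintro ⟨x, hx⟩
    obtain ⟨g, rfl⟩ := hf x
    exact ⟨⟨g, hx⟩, rfl⟩
  obtain ⟨K, L, hn, -, he⟩ := SectionLift.exists_section (A.comap f) φ (MonoidHom.id S)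
    Function.injective_id (by rw [MonoidHom.range_eq_top.2 hsurj]; exact le_top)
  exact ⟨K, L, hn, he⟩

/-- The faithful module of a normal elementary abelian subgroup. -/
theorem exists_faithful_action {Q : Type*} [Group Q] [Finite Q] (V : Subgroup Q) [V.Normal]
    [IsMulCommutative V] (a : Q) (hq : ∀ x ∈ V, a * ⁅x, a⁆ = ⁅x, a⁆ * a) :
    ∃ ρ : Q ⧸ Subgroup.centralizer (V : Set Q) →* AddMonoid.End (Additive V),
      (∀ h, (∀ v, ρ h v = v) → h = 1) ∧
      (∀ (g : Q) (v : Additive V), ((Additive.toMul (ρ (g : Q ⧸ Subgroup.centralizer (V : Set Q)) v) : V) : Q) =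
        g * (Additive.toMul v : V) * g⁻¹) ∧
      TwoQuadratic.IsUnipotentTwo (ρ (a : Q ⧸ Subgroup.centralizer (V : Set Q))) := by
  have hV : (⊤ : Subgroup Q) ≤ Subgroup.normalizer (V : Set Q) := by
    rw [Subgroup.normalizer_eq_top]
  set ρ₀ : Q →* AddMonoid.End (Additive V) :=
    (QuadraticPair.actAdd V ⊤ hV).comp Subgroup.topEquiv.symm.toMonoidHom with hρ₀
  have hval : ∀ (g : Q) (v : Additive V), ((Additive.toMul (ρ₀ g v) : V) : Q) =
      g * (Additive.toMul v : V) * g⁻¹ := fun g v => rfl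
  have hle : Subgroup.centralizer (V : Set Q) ≤ ρ₀.ker := by
    intro g hg
    refine AddMonoidHom.ext fun v => Additive.toMul.injective (Subtype.ext ?_)
    refine (hval g v).trans ?_
    rw [← (Subgroup.mem_centralizer_iff.1 hg _ (Additive.toMul v : V).2), mul_inv_cancel_right]
    rfl
  refine ⟨QuotientGroup.lift _ ρ₀ hle, fun h hh => ?_, fun g v => hval g v, ?_⟩
  · obtain ⟨g, rfl⟩ := QuotientGroup.mk_surjective h
    refine (QuotientGroup.eq_one_iff g).2 (Subgroup.mem_centralizer_iff.2 fun v hv => ?_)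
    have h4 := congrArg (fun t => ((Additive.toMul t : V) : Q)) (hh (Additive.ofMul ⟨v, hv⟩))
    rw [show QuotientGroup.lift _ ρ₀ hle (g : Q ⧸ Subgroup.centralizer (V : Set Q)) = ρ₀ g from rfl,
      hval] at h4
    exact (mul_inv_eq_iff_eq_mul.1 h4).symm
  · show TwoQuadratic.IsUnipotentTwo (ρ₀ a)
    refine AddMonoidHom.ext fun v => ?_
    change ρ₀ a (ρ₀ a v - v) - (ρ₀ a v - v) = 0
    rw [sub_eq_zero]
    apply Additive.toMul.injective
    apply Subtype.ext
    rw [hval, toMul_sub, Subgroup.coe_div, hval]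
    set w : Q := ((Additive.toMul v : V) : Q) with hw
    have h2 : a * w * a⁻¹ / w = ⁅w, a⁆⁻¹ := by
      simp [commutatorElement_def, div_eq_mul_inv, mul_assoc]
    rw [h2, (show Commute a ⁅w, a⁆ from hq w (Additive.toMul v : V).2).inv_right.eq,
      mul_inv_cancel_right]

/-- The element witnessing failure of stability at a pair `(A, P)`. -/
theorem exists_elt_of_not_stableAt {G : Type*} [Group G] {A P : Subgroup G}
    (hA : A ≤ Subgroup.normalizer (P : Set G)) (hcomm : ⁅⁅P, A⁆, A⁆ = ⊥)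
    (h : ¬ PSolvable.StableAt p A P) :
    ∃ a : Subgroup.normalizer (P : Set G), (a : G) ∈ A ∧
      (∀ x ∈ P.subgroupOf (Subgroup.normalizer (P : Set G)), a * ⁅x, a⁆ = ⁅x, a⁆ * a) ∧
      (a : Subgroup.normalizer (P : Set G) ⧸ Subgroup.centralizer
          (P.subgroupOf (Subgroup.normalizer (P : Set G)) : Set (Subgroup.normalizer (P : Set G)))) ∉
        pCore p _ := by
  set K := Subgroup.normalizer (P : Set G) with hK
  have hC : (Subgroup.centralizer (P : Set G)).subgroupOf K =
      Subgroup.centralizer (P.subgroupOf K : Set K) := by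
    ext g
    simp only [Subgroup.mem_subgroupOf, Subgroup.mem_centralizer_iff, SetLike.mem_coe]
    constructor
    · exact fun hg x hx => Subtype.ext (hg _ hx)
    · exact fun hg x hx => congrArg Subtype.val (hg ⟨x, Subgroup.le_normalizer hx⟩ hx)
  obtain ⟨_, ⟨⟨a, hak⟩, ha, rfl⟩, hna⟩ := SetLike.not_le_iff_exists.1 h
  refine ⟨⟨a, hak⟩, ha, fun x hx => Subtype.ext ?_, fun h' => hna ?_⟩
  · exact Quadratic.commute_of_commutator_commutator_eq_bot hcomm hx ha ha
  · rw [← PSolvable.map_pCore_equiv (QuotientGroup.quotientMulEquivOfEq hC).symm]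
    exact ⟨_, h', rfl⟩

theorem exists_sl2_section_of_not_stableAt {G : Type*} [Group G] [Finite G] [Fact p.Prime]
    (hp : p ≠ 2) {A P : Subgroup G} (hP : IsPGroup p P)
    (hA : A ≤ Subgroup.normalizer (P : Set G)) (hcomm : ⁅⁅P, A⁆, A⁆ = ⊥)
    (h : ¬ PSolvable.StableAt p A P) :
    ∃ (K L : Subgroup G) (_ : (L.subgroupOf K).Normal),
      Nonempty ((K ⧸ L.subgroupOf K) ≃* Matrix.SpecialLinearGroup (Fin 2) (ZMod p)) := by
  set Y := Subgroup.normalizer (P : Set G) with hY
  obtain ⟨a, -, hq, hna⟩ := exists_elt_of_not_stableAt hA hcomm h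
  have : (P.subgroupOf Y).Normal := Subgroup.normal_in_normalizer
  obtain ⟨W, hWn, V, hVn, -, -, hV, -, -, hO, haV, hqV⟩ :=
    exists_chiefFactor (P.subgroupOf Y) (hP.comap_subtype) hq hna
  have : IsMulCommutative V := hV.1
  have hM : ∀ v : Additive V, p • v = 0 := fun v => by
    apply Additive.toMul.injective
    apply Subtype.ext
    rw [toMul_nsmul, SubgroupClass.coe_pow, toMul_zero, OneMemClass.coe_one]
    exact hV.2 _ (Additive.toMul v : V).2
  obtain ⟨ρ, hinj, -, hu⟩ := exists_faithful_action V (QuotientGroup.mk' W a) hqV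
  obtain ⟨A', B', hn', ⟨e⟩⟩ := exists_sl2_section hp hM ρ hinj hu
    (fun h' => haV ((QuotientGroup.eq_one_iff _).1 (by rwa [hO, Subgroup.mem_bot] at h')))
  obtain ⟨K, L, hn, ⟨e'⟩⟩ := section_comap
    ((QuotientGroup.mk' (Subgroup.centralizer (V : Set (Y ⧸ W)))).comp (QuotientGroup.mk' W))
    ((QuotientGroup.mk'_surjective _).comp (QuotientGroup.mk'_surjective _)) A' B' e
  obtain ⟨K', L', hn', -, he⟩ := SectionLift.map_section K L e'
  exact ⟨K', L', hn', he⟩

end Cfsg.Agent.Lib.ZJ
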