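import Mathlib
import Cfsg.Agent.Lib.ZJ.Constrained
import Cfsg.Agent.Lib.ZJ.Involve
import Cfsg.Agent.Lib.ThompsonNPC.Thompson

/-!
Glauberman's normal `p`-complement theorem.
-/

set_option autoImplicit false

namespace Cfsg.Agent.Lib.ZJ

open Subgroup Cfsg
open scoped commutatorElement

universe u

/-- A group all whose `2`-subgroups are commutative has no section `SL₂(p)`, `p` odd. -/
theorem false_of_sl2_section {G : Type*} [Group G] [Finite G] {p : ℕ} [Fact p.Prime] (hp : p ≠ 2)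
    (h2 : ∀ T : Subgroup G, IsPGroup 2 T → ∀ x ∈ T, ∀ y ∈ T, x * y = y * x)
    {K L : Subgroup G} [(L.subgroupOf K).Normal]
    (e : (K ⧸ L.subgroupOf K) ≃* Matrix.SpecialLinearGroup (Fin 2) (ZMod p)) : False := by
  haveI : Fact (Nat.Prime 2) := ⟨Nat.prime_two⟩
  have h20 : (2 : ZMod p) ≠ 0 := SL2Unipotent.two_ne_zero' (p := p) hp
  obtain ⟨a, b, hab⟩ := ZMod.sq_add_sq p (-1)
  set x : SL2.SLtwo (ZMod p) := SL2.weyl with hx
  set y : SL2.SLtwo (ZMod p) := SL2.ofEntries a b b (-a) (by linear_combination -hab) with hy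
  have hxx : x * x = -1 := SL2.weyl_mul_weyl
  have hyy : y * y = -1 := by
    apply SL2.ext_entries <;>
      simp [hy, Matrix.mul_apply, Fin.sum_univ_two] <;>
        first | ring1 | linear_combination hab | linear_combination -hab
  have hyx : y * x = -(x * y) := by
    apply SL2.ext_entries <;> simp [hx, hy, SL2.weyl, Matrix.mul_apply, Fin.sum_univ_two]
  have hne : x * y ≠ y * x := by
    intro h
    have e00 := congrArg (fun g : SL2.SLtwo (ZMod p) => g 0 0) h
    have e01 := congrArg (fun g : SL2.SLtwo (ZMod p) => g 0 1) h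
    simp [hx, hy, SL2.weyl, Matrix.mul_apply, Fin.sum_univ_two] at e00 e01
    have hb : b = 0 := (mul_eq_zero.1 (show (2 : ZMod p) * b = 0 by linear_combination e00)).resolve_left h20
    have ha : a = 0 := (mul_eq_zero.1 (show (2 : ZMod p) * a = 0 by linear_combination -e01)).resolve_left h20
    rw [ha, hb] at hab
    simp at hab
  have hpg : ∀ w : SL2.SLtwo (ZMod p), w * w = -1 → IsPGroup 2 (zpowers w) := by
    intro w hw
    have h4 : w ^ 2 ^ 2 = 1 := by
      rw [show (2 : ℕ) ^ 2 = 2 * 2 by norm_num, pow_mul, pow_two w, hw, neg_one_sq]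
    rintro ⟨z, n, rfl⟩
    refine ⟨2, Subtype.ext ?_⟩
    show (w ^ n) ^ 2 ^ 2 = 1
    rw [← zpow_natCast, ← _root_.zpow_mul, mul_comm, _root_.zpow_mul, zpow_natCast, h4,
      _root_.one_zpow]
  set Q := zpowers y ⊔ zpowers x with hQ
  have hxinv : y * x * y⁻¹ = x⁻¹ := by
    rw [hyx, eq_inv_of_mul_eq_one_right (show x * (-x) = 1 by rw [mul_neg, hxx, neg_neg]) |>.symm,
      neg_mul, mul_inv_cancel_right]
  have hQp : IsPGroup 2 Q := by
    refine (hpg y hyy).to_sup_of_normal_right' (hpg x hxx) (zpowers_le.2 ?_)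
    refine mem_normalizer_of_conj_le ?_
    rintro _ ⟨n, rfl⟩
    refine ⟨-n, ?_⟩
    show x ^ (-n) = y * x ^ n * y⁻¹
    rw [← MulAut.conj_apply, map_zpow, MulAut.conj_apply, hxinv, inv_zpow']
  set φ : K →* SL2.SLtwo (ZMod p) := e.toMonoidHom.comp (QuotientGroup.mk' (L.subgroupOf K)) with hφ
  have hφs : Function.Surjective φ := e.surjective.comp (QuotientGroup.mk'_surjective _)
  let S : Sylow 2 (Q.comap φ) := default
  have hmap := PSolvable.map_sylow_eq φ S (by rwa [map_comap_eq_self_of_surjective hφs])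
  rw [map_comap_eq_self_of_surjective hφs] at hmap
  obtain ⟨x', hx', hxe⟩ := hmap.ge (mem_sup_right (mem_zpowers x) : x ∈ Q)
  obtain ⟨y', hy', hye⟩ := hmap.ge (mem_sup_left (mem_zpowers y) : y ∈ Q)
  set T := ((S : Subgroup (Q.comap φ)).map (Q.comap φ).subtype).map K.subtype with hT
  have hc := h2 T ((S.2.map _).map _) _ (mem_map_of_mem K.subtype hx') _
    (mem_map_of_mem K.subtype hy')
  have : x' * y' = y' * x' := Subtype.ext hc
  exact hne (by rw [← hxe, ← hye, ← map_mul, ← map_mul, this])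

theorem zj_map_of_nonempty {G H : Type*} [Group G] [Group H] {m : ℕ} (f : G →* H) {U : Subgroup G}
    (hf : Set.InjOn f U) (hne : (fam m U).Nonempty) : zj m (U.map f) = (zj m U).map f := by
  obtain ⟨A, hA⟩ := hne
  refine le_antisymm (fun y hy => ?_) ?_
  · obtain ⟨x, hx, rfl⟩ := mem_zj.1 hy (A.map f) ((fam_map_iff f hf).2 ⟨A, hA, rfl⟩)
    refine ⟨x, mem_zj.2 fun A' hA' => ?_, rfl⟩
    obtain ⟨x', hx', he⟩ := mem_zj.1 hy (A'.map f) ((fam_map_iff f hf).2 ⟨A', hA', rfl⟩)
    exact hf (hA'.1 hx') (hA.1 hx) he ▸ hx'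
  · rintro _ ⟨x, hx, rfl⟩
    refine mem_zj.2 fun B hB => ?_
    obtain ⟨A', hA', rfl⟩ := (fam_map_iff f hf).1 hB
    exact ⟨x, mem_zj.1 hx A' hA', rfl⟩

/-- The local family `N(Z(J(S)))`. -/
def zjFamily (p : ℕ) [Fact p.Prime] : ThompsonNPC.LocalFamily.{u} p where
  idx := Unit
  loc := fun _ _ _ S => normalizer (zj 0 S : Set _)
  mono := by
    intro _ G _ M S
    by_cases hne : (fam 0 S).Nonempty
    · rintro _ ⟨g, hg, rfl⟩
      rw [zj_map_of_nonempty M.subtype M.subtype_injective.injOn hne, mem_normalizer_iff]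
      intro x
      constructor
      · rintro ⟨z, hz, rfl⟩
        exact ⟨g * z * g⁻¹, (mem_normalizer_iff.1 hg z).1 hz, rfl⟩
      · rintro ⟨z, hz, hzx⟩
        refine ⟨g⁻¹ * z * g, (mem_normalizer_iff''.1 hg z).1 hz, ?_⟩
        simp only [coe_subtype, Subgroup.coe_mul, Subgroup.coe_inv] at hzx ⊢
        rw [hzx]; group
    · have h1 : zj 0 (S.map M.subtype) = ⊤ := by
        refine eq_top_iff.2 fun x _ => mem_zj.2 fun B hB => ?_
        obtain ⟨A, hA, -⟩ := (fam_map_iff M.subtype M.subtype_injective.injOn).1 hB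
        exact absurd ⟨A, hA⟩ hne
      rw [h1]
      exact fun x _ => le_normalizer (mem_top x)
  localised := fun _ G _ _ S hS hS1 =>
    ⟨zj 0 S, zj_ne_bot hS hS1 (Or.inl rfl), zj_le 0 S, le_rfl, normalizer_le 0 S⟩
  quot := by
    intro _ G H _ _ _ f hf hker P
    rw [zj_map f (injOn_of_coprime f P.2 hker)]
    exact ThompsonNPC.normalizer_map_le f hf hker (P.2.to_le (zj_le 0 _))
  top_of_normal := ⟨(), fun {G} _ _ P hP => top_le_iff.1 (by
    rw [← normalizer_eq_top_iff.2 hP]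
    exact normalizer_le 0 (P : Subgroup G))⟩

theorem hasNormalPComplement_of_zj {p : ℕ} [Fact p.Prime] (hp : p ≠ 2) {G : Type u} [Group G]
    [Finite G] (P : Sylow p G)
    (hN : HasNormalPComplement p (normalizer (zj 0 (P : Subgroup G) : Set G))) :
    HasNormalPComplement p G := by
  haveI : Fact (Nat.Prime 2) := ⟨Nat.prime_two⟩
  refine ThompsonNPC.hasNormalPComplement_of_good (zjFamily p) ?_ G
    (ThompsonNPC.good_of_one _ P fun _ => hN)
  intro X _ _ hgood hX M
  set S := (M.P : Subgroup X)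
  have h2 : ∀ T : Subgroup X, IsPGroup 2 T → ∀ x ∈ T, ∀ y ∈ T, x * y = y * x := by
    intro T hT
    have := M.normal
    have hTK : T ≤ M.K := by
      intro t ht
      obtain ⟨a, ha, b, hb, rfl⟩ := mem_sup_of_normal_left.1 (M.sup_eq ▸ mem_top t :
        t ∈ M.K ⊔ (M.P : Subgroup X))
      obtain ⟨i, hi⟩ := hT ⟨_, ht⟩
      obtain ⟨j, hj⟩ := M.P.2 ⟨b, hb⟩
      have e0 : ((a * b : X) : X ⧸ M.K) = (b : X ⧸ M.K) := by
        rw [QuotientGroup.mk_mul, (QuotientGroup.eq_one_iff a).2 ha, one_mul]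
      have e1 : (b : X ⧸ M.K) ^ 2 ^ i = 1 := by
        rw [← e0, ← QuotientGroup.mk_pow, show (a * b) ^ 2 ^ i = 1 from congrArg Subtype.val hi]; rfl
      have e2 : (b : X ⧸ M.K) ^ p ^ j = 1 := by
        rw [← QuotientGroup.mk_pow, show b ^ p ^ j = 1 from congrArg Subtype.val hj]; rfl
      have := pow_gcd_eq_one.mpr ⟨e1, e2⟩
      rw [show Nat.gcd (2 ^ i) (p ^ j) = 1 from Nat.Coprime.pow i j
        ((Nat.coprime_primes Nat.prime_two Fact.out).2 hp.symm), pow_one, ← e0] at this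
      exact (QuotientGroup.eq_one_iff _).1 this
    intro x hx y hy
    have h1 : x * y * x⁻¹ * y⁻¹ ∈ T ⊓ pCore p X :=
      ⟨T.mul_mem (T.mul_mem (T.mul_mem hx hy) (T.inv_mem hx)) (T.inv_mem hy),
        M.comm x (hTK hx) y (hTK hy)⟩
    obtain ⟨i, hi⟩ := hT ⟨_, h1.1⟩
    obtain ⟨j, hj⟩ := PSolvable.pCore_isPGroup ⟨_, h1.2⟩
    have := pow_gcd_eq_one.mpr ⟨congrArg Subtype.val hi, congrArg Subtype.val hj⟩
    rw [show Nat.gcd (2 ^ i) (p ^ j) = 1 from Nat.Coprime.pow i j
      ((Nat.coprime_primes Nat.prime_two Fact.out).2 hp.symm), pow_one, mul_inv_eq_one,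
      mul_inv_eq_iff_eq_mul] at this
    exact this
  have hst : StableOn p S := by
    intro Q _ hQ A hA hq
    refine map_le_pCore_of_stableAt Q ?_
    by_contra h
    obtain ⟨K, L, hn, ⟨e⟩⟩ := exists_sl2_section_of_not_stableAt hp hQ
      (fun a _ => (normalizer_eq_top Q).symm ▸ mem_top a) hq h
    exact false_of_sl2_section hp h2 e
  have hn := zj_normal (m := 0) hp (Or.inl rfl) M.centralizer_le M.P hst
  have hg : HasNormalPComplement p (normalizer (zj 0 S : Set X)) := hgood M.P ()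
  rw [normalizer_eq_top_iff.2 hn] at hg
  exact hX (ThompsonNPC.hasNormalPComplement_top hg)

end Cfsg.Agent.Lib.ZJ
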